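import Groth.Prelude.Def_Found
import Mathlib

/-! Catenary rings: transfer along quotients and localizations. -/

set_option autoImplicit false

universe u

namespace Groth.Agent.CatenaryLib

theorem covBy_map {X Y : Type*} [Preorder X] [Preorder Y] {f : X → Y} (hf : ∀ a b, f a ≤ f b ↔ a ≤ b)
    (hord : (Set.range f).OrdConnected) {a b : X} (h : a ⋖ b) : f a ⋖ f b := by
  have hlt : ∀ a b, f a < f b ↔ a < b := fun a b => by rw [lt_iff_le_not_ge, lt_iff_le_not_ge, hf, hf]
  refine ⟨(hlt a b).mpr h.1, fun c h1 h2 => ?_⟩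
  obtain ⟨x, rfl⟩ := hord.out ⟨a, rfl⟩ ⟨b, rfl⟩ ⟨h1.le, h2.le⟩
  exact h.2 ((hlt a x).mp h1) ((hlt x b).mp h2)

variable {A B : Type u} [CommRing A] [CommRing B]

theorem isCatenary_of_embedding (f : PrimeSpectrum B → PrimeSpectrum A) (hf : ∀ a b, f a ≤ f b ↔ a ≤ b)
    (hord : (Set.range f).OrdConnected) (hA : CAlg.IsCatenary A) : CAlg.IsCatenary B := by
  have hs : StrictMono f := fun a b h => by
    rw [lt_iff_le_not_ge, hf, hf, ← lt_iff_le_not_ge]; exact h
  refine ⟨fun p q hpq => ?_, fun s t h1 h2 hs' ht' => ?_⟩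
  · obtain ⟨n, hn⟩ := hA.1 (f p) (f q) ((hf p q).mpr hpq)
    exact ⟨n, fun s h1 h2 => hn (s.map f hs) (by simp [h1]) (by simp [h2])⟩
  · exact hA.2 (s.map f hs) (t.map f hs) (by simp [h1]) (by simp [h2])
      (fun i => covBy_map hf hord (hs' i)) (fun i => covBy_map hf hord (ht' i))

theorem isCatenary_of_surjective (φ : A →+* B) (hφ : Function.Surjective φ) (hA : CAlg.IsCatenary A) :
    CAlg.IsCatenary B := by
  refine isCatenary_of_embedding (PrimeSpectrum.comap φ) (fun a b => ?_) ?_ hA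
  · exact Ideal.comap_le_comap_iff_of_surjective φ hφ a.asIdeal b.asIdeal
  · rw [range_comap_of_surjective _ φ hφ]
    exact ⟨fun x hx _ _ z hz => Set.Subset.trans hx (fun r hr => hz.1 hr)⟩

theorem isCatenary_of_isLocalization [Algebra A B] (S : Submonoid A) [IsLocalization S B]
    (hA : CAlg.IsCatenary A) : CAlg.IsCatenary B := by
  refine isCatenary_of_embedding (PrimeSpectrum.comap (algebraMap A B)) (fun a b => ⟨fun h => ?_, fun h => Ideal.comap_mono h⟩) ?_ hA
  · have h' : a.asIdeal.comap (algebraMap A B) ≤ b.asIdeal.comap (algebraMap A B) := h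
    show a.asIdeal ≤ b.asIdeal
    rw [← IsLocalization.map_under S B a.asIdeal, ← IsLocalization.map_under S B b.asIdeal]
    exact Ideal.map_mono h'
  · rw [PrimeSpectrum.localization_comap_range B S]
    exact ⟨fun x _ y hy z hz => Set.disjoint_of_subset_right (fun r hr => hz.2 hr) hy⟩

theorem isCatenary_iff_quotient_minimalPrimes :
    CAlg.IsCatenary A ↔ ∀ p ∈ minimalPrimes A, CAlg.IsCatenary (A ⧸ p) := by
  refine ⟨fun h p _ => isCatenary_of_surjective _ Ideal.Quotient.mk_surjective h, fun h => ?_⟩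
  have key : ∀ p : PrimeSpectrum A, ∃ r ∈ minimalPrimes A, ∀ s : LTSeries (PrimeSpectrum A), s.head = p →
      ∃ s' : LTSeries (PrimeSpectrum (A ⧸ r)), s'.length = s.length ∧
        PrimeSpectrum.comap (Ideal.Quotient.mk r) s'.head = s.head ∧
        PrimeSpectrum.comap (Ideal.Quotient.mk r) s'.last = s.last ∧
        ((∀ i : Fin s.length, s (Fin.castSucc i) ⋖ s (Fin.succ i)) →
          ∀ i : Fin s'.length, s' (Fin.castSucc i) ⋖ s' (Fin.succ i)) := by
    intro p
    obtain ⟨r, hr, hrp⟩ := Ideal.exists_minimalPrimes_le (J := p.asIdeal) (bot_le : (⊥ : Ideal A) ≤ _)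
    refine ⟨r, hr, fun s hs => ?_⟩
    let f := PrimeSpectrum.comap (Ideal.Quotient.mk r)
    have hf : ∀ a b, f a ≤ f b ↔ a ≤ b := fun a b =>
      Ideal.comap_le_comap_iff_of_surjective _ Ideal.Quotient.mk_surjective a.asIdeal b.asIdeal
    have hlt : ∀ a b, f a < f b ↔ a < b := fun a b => by rw [lt_iff_le_not_ge, lt_iff_le_not_ge, hf, hf]
    have hlift : ∀ i, ∃ x, f x = s i := fun i => by
      have : s i ∈ PrimeSpectrum.zeroLocus (r : Set A) := fun a ha => by
        have h1 : s.head ≤ s i := s.monotone (Fin.zero_le i)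
        rw [hs] at h1
        exact h1 (hrp ha)
      rwa [← Ideal.mk_ker (I := r), ← range_comap_of_surjective _ _ Ideal.Quotient.mk_surjective] at this
    choose g hg using hlift
    refine ⟨⟨s.length, g, fun i => ?_⟩, rfl, hg 0, hg (Fin.last _), fun hsat i => ?_⟩
    · exact (hlt _ _).mp (by rw [hg, hg]; exact s.step i)
    · have h1 := hsat i
      rw [← hg, ← hg] at h1
      exact ⟨(hlt _ _).mp h1.1, fun c ha hb => h1.2 ((hlt _ _).mpr ha) ((hlt _ _).mpr hb)⟩
  have hinj : ∀ r : Ideal A, Function.Injective (PrimeSpectrum.comap (Ideal.Quotient.mk r)) :=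
    fun r => PrimeSpectrum.comap_injective_of_surjective _ Ideal.Quotient.mk_surjective
  constructor
  · intro p q hpq
    obtain ⟨r, hr, hl⟩ := key p
    by_cases hex : ∃ s : LTSeries (PrimeSpectrum A), s.head = p ∧ s.last = q
    · obtain ⟨s₀, h0, h0'⟩ := hex
      obtain ⟨t₀, -, ht₀, ht₀', -⟩ := hl s₀ h0
      obtain ⟨n, hn⟩ := (h r hr).1 t₀.head t₀.last t₀.head_le_last
      refine ⟨n, fun s hs hs' => ?_⟩
      obtain ⟨t, htl, hth, htl', -⟩ := hl s hs
      rw [← htl]
      exact hn t (hinj r (by rw [hth, ht₀, hs, h0])) (hinj r (by rw [htl', ht₀', hs', h0']))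
    · exact ⟨0, fun s hs hs' => absurd ⟨s, hs, hs'⟩ hex⟩
  · intro s t hh hl' hs ht
    obtain ⟨r, hr, hl⟩ := key s.head
    obtain ⟨s', h1, h2, h3, h4⟩ := hl s rfl
    obtain ⟨t', k1, k2, k3, k4⟩ := hl t hh.symm
    rw [← h1, ← k1]
    exact (h r hr).2 s' t' (hinj r (by rw [h2, k2, hh])) (hinj r (by rw [h3, k3, hl'])) (h4 hs) (k4 ht)

theorem isCatenary_of_essFiniteType [Algebra A B] [Algebra.EssFiniteType A B]
    (hA : CAlg.IsUniversallyCatenary A) : CAlg.IsCatenary B :=
  isCatenary_of_isLocalization (Algebra.EssFiniteType.submonoid A B)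
    (hA.2 (Algebra.EssFiniteType.subalgebra A B) inferInstance)

end Groth.Agent.CatenaryLib
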